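import Cfsg.Agent.OddOrder.ZJ.Glauberman

/-!
# Glauberman's `ZJ` theorem for the Thompson subgroups of the prelude

* `centerThompsonOf_normal`, `centerThompsonAOf_normal`: `C(O_p) ≤ O_p` and `QuadraticStable` imply
  that `Z(J(S))` is normal.
* `quadraticStable_of_odd`, `quadraticStable_of_isPStableOn`: the two sources of stability.
-/

set_option autoImplicit false
open scoped commutatorElement

namespace CfsgLib.OddOrder.ZJ

open Cfsg Subgroup

variable {G : Type*} [Group G]

theorem jay_zero (S : Subgroup G) : jay 0 S = thompsonSubgroupAOf S := by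
  rw [PLocal.thompsonSubgroupAOf_eq, jay]
  congr 1
  ext A
  simp [maxIn, PLocal.maxAbIn, IsExpAbelian]

theorem jay_prime (p : ℕ) (S : Subgroup G) : jay p S = thompsonSubgroupOf p S := by
  rw [PLocal.thompsonSubgroupOf_eq, jay]; rfl

theorem zjay_zero (S : Subgroup G) : zjay 0 S = centerThompsonAOf S := by
  rw [zjay, jay_zero, centerThompsonAOf]

theorem zjay_prime (p : ℕ) (S : Subgroup G) : zjay p S = centerThompsonOf p S := by
  rw [zjay, jay_prime, centerThompsonOf]

variable [Finite G] {p : ℕ} [Fact p.Prime]

/-- Groups of odd order are stable. -/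
theorem quadraticStable_of_odd (hp2 : p ≠ 2) (hodd : Odd (Nat.card G)) : QuadraticStable p G :=
  fun _ _ hB _ ha => Quad.quadratic_mem_pCore_of_normal hp2 hB hodd ha

/-- The prelude's `p`-stability on every normal `p`-subgroup gives stability. -/
theorem quadraticStable_of_isPStableOn
    (hst : ∀ (P : Subgroup G) [P.Normal], IsPGroup p P → IsPStableOn p P) : QuadraticStable p G := by
  intro B _ hB a ha
  exact hst B hB a ((PLocal.quadratic_iff (by rw [normalizer_eq_top]; exact mem_top a)).2 ha)

/-- With `C(O_p(G)) ≤ O_p(G)`, a stable group has `Z(J(S))` normal. -/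
theorem zjay_normal (hp2 : p ≠ 2) (hst : QuadraticStable p G)
    (hc : centralizer (pCore p G : Set G) ≤ pCore p G) {n : ℕ} (hn : n = 0 ∨ n = p) (S : Sylow p G) :
    (zjay n (S : Subgroup G)).Normal := by
  have hle : zjay n (S : Subgroup G) ≤ pCore p G := fun a ha =>
    Quad.mem_pCore_of_map_mem ((PLocal.isPGroup_pCore p G).to_le hc)
      (hst (pCore p G) (PLocal.isPGroup_pCore p G) a fun w hw =>
        Quad.commute_commutator_of_abelian (zjay_comm n (S : Subgroup G))
          ((PLocal.pCore_le_sylow S).trans (le_normalizer.trans (normalizer_le_normalizer_zjay n _)))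
          ha hw)
  have h := inf_zjay_normal hp2 hst hn S (pCore p G) (PLocal.pCore_le_sylow S)
  rwa [inf_eq_right.2 hle] at h

/-- **Glauberman's ZJ theorem**, elementary abelian version. -/
theorem centerThompsonOf_normal (hp2 : p ≠ 2) (hst : QuadraticStable p G)
    (hc : centralizer (pCore p G : Set G) ≤ pCore p G) (S : Sylow p G) :
    (centerThompsonOf p (S : Subgroup G)).Normal :=
  zjay_prime p (S : Subgroup G) ▸ zjay_normal hp2 hst hc (Or.inr rfl) S

/-- **Glauberman's ZJ theorem**, abelian version. -/
theorem centerThompsonAOf_normal (hp2 : p ≠ 2) (hst : QuadraticStable p G)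
    (hc : centralizer (pCore p G : Set G) ≤ pCore p G) (S : Sylow p G) :
    (centerThompsonAOf (S : Subgroup G)).Normal :=
  zjay_zero (S : Subgroup G) ▸ zjay_normal hp2 hst hc (Or.inl rfl) S

omit [Finite G] [Fact p.Prime] in
theorem map_centerThompson_aux {S : Subgroup G} {K : Type*} [Group K] (g : S →* K)
    (hg : Function.Injective g) :
    (thompsonSubgroup p S ⊓ centralizer (thompsonSubgroup p S : Set S)).map g
      = centerThompsonOf p g.range := by
  rw [PLocal.map_inf_centralizer hg, PLocal.map_thompsonSubgroup hg]
  rfl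

omit [Finite G] [Fact p.Prime] in
/-- `Z(J(S))` commutes with homomorphisms injective on `S`. -/
theorem map_centerThompsonOf {H : Type*} [Group H] {f : G →* H} {S : Subgroup G}
    (hf : Set.InjOn f S) : (centerThompsonOf p S).map f = centerThompsonOf p (S.map f) := by
  have hinj : Function.Injective (f.comp S.subtype) := fun a b h => Subtype.ext (hf a.2 b.2 h)
  have h1 := map_centerThompson_aux (p := p) S.subtype S.subtype_injective
  rw [range_subtype] at h1
  rw [← h1, Subgroup.map_map, map_centerThompson_aux _ hinj, MonoidHom.range_comp, range_subtype]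

end CfsgLib.OddOrder.ZJ
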