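import Cfsg.Agent.OddOrder.ZJ.Replacement
import Cfsg.Agent.OddOrder.BG1Stab
import Cfsg.Agent.OddOrder.AppA.AbelianGenerated
import Cfsg.Agent.PLocal.Quadratic
import Cfsg.Agent.PLocal.Thompson
import Cfsg.Agent.UniqueMaximal.Basic
import Cfsg.Agent.HallHigman.MinimalAction

/-!
# Glauberman's `ZJ` theorem, abstract form

`J` is generated by the subgroups of largest order among the abelian subgroups `A` of `S` with
`a ^ n = 1` for all `a ∈ A`, where `n = 0` (abelian subgroups) or `n = p` (elementary abelian ones).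
-/

set_option autoImplicit false
open scoped commutatorElement

namespace CfsgLib.OddOrder.ZJ

open Cfsg Subgroup CfsgLib.LocalEvenBasic

variable {G : Type*} [Group G]

/-- Abelian with all `n`-th powers trivial. -/
def IsExpAbelian (n : ℕ) (A : Subgroup G) : Prop := IsMulCommutative A ∧ ∀ a ∈ A, a ^ n = 1

/-- The subgroups of largest order among those of `S` satisfying `IsExpAbelian n`. -/
def maxIn (n : ℕ) (S : Subgroup G) : Set (Subgroup G) :=
  {A | A ≤ S ∧ IsExpAbelian n A ∧ ∀ B, B ≤ S → IsExpAbelian n B → Nat.card B ≤ Nat.card A}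

/-- The subgroup generated by `maxIn n S`. -/
def jay (n : ℕ) (S : Subgroup G) : Subgroup G := sSup (maxIn n S)

/-- Its centre. -/
def zjay (n : ℕ) (S : Subgroup G) : Subgroup G := jay n S ⊓ centralizer (jay n S : Set G)

/-- Every element of the group `G` acting quadratically on a normal `p`-subgroup lies in `O_p` modulo
the centralizer. -/
def QuadraticStable (p : ℕ) (G : Type*) [Group G] : Prop :=
  ∀ (B : Subgroup G) [B.Normal], IsPGroup p B → ∀ a : G, (∀ w ∈ B, Commute ⁅w, a⁆ a) →
    QuotientGroup.mk' (centralizer (B : Set G)) a ∈ pCore p (G ⧸ centralizer (B : Set G))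

theorem jay_le (n : ℕ) (S : Subgroup G) : jay n S ≤ S := sSup_le fun _ hA => hA.1

theorem zjay_le (n : ℕ) (S : Subgroup G) : zjay n S ≤ S := inf_le_left.trans (jay_le n S)

theorem isExpAbelian_map {H : Type*} [Group H] (f : G →* H) {n : ℕ} {A : Subgroup G}
    (h : IsExpAbelian n A) : IsExpAbelian n (A.map f) := by
  refine ⟨?_, ?_⟩
  · haveI := h.1
    exact Subgroup.map_isMulCommutative A f
  · rintro _ ⟨a, ha, rfl⟩
    rw [← map_pow, h.2 a ha, map_one]

theorem map_mem_maxIn {n : ℕ} {S A : Subgroup G} {g : G} (hg : g ∈ normalizer (S : Set G))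
    (hA : A ∈ maxIn n S) : A.map (MulAut.conj g).toMonoidHom ∈ maxIn n S := by
  have hS : S.map (MulAut.conj g).toMonoidHom = S := by
    simpa using mem_normalizer_iff_map_conj_eq.1 hg
  refine ⟨(Subgroup.map_mono hA.1).trans hS.le, isExpAbelian_map _ hA.2.1, fun B hB hBe => ?_⟩
  rw [card_map_of_injective (MulAut.conj g).injective]
  exact hA.2.2 B hB hBe

theorem normalizer_le_normalizer_jay [Finite G] (n : ℕ) (S : Subgroup G) :
    normalizer (S : Set G) ≤ normalizer (jay n S : Set G) := by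
  intro g hg
  refine CfsgLib.LocalStructure.mem_normalizer_of_forall fun y hy => ?_
  have : jay n S ≤ (jay n S).comap (MulAut.conj g).toMonoidHom :=
    sSup_le fun A hA => map_le_iff_le_comap.1 (le_sSup (map_mem_maxIn hg hA))
  exact this hy

theorem normalizer_le_normalizer_zjay [Finite G] (n : ℕ) (S : Subgroup G) :
    normalizer (S : Set G) ≤ normalizer (zjay n S : Set G) := by
  intro g hg
  have hJ := normalizer_le_normalizer_jay n S hg
  refine CfsgLib.LocalStructure.mem_normalizer_of_forall fun y hy => ?_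
  refine mem_inf.2 ⟨(mem_normalizer_iff.1 hJ y).1 hy.1, mem_centralizer_iff.2 fun x hx => ?_⟩
  have hc := mem_centralizer_iff.1 hy.2 _ ((mem_normalizer_iff''.1 hJ x).1 hx)
  simpa [mul_assoc] using congrArg (fun t => g * t * g⁻¹) hc

theorem zjay_comm (n : ℕ) (S : Subgroup G) : IsMulCommutative (zjay n S) :=
  ⟨⟨fun a b => Subtype.ext (mem_centralizer_iff.1 b.2.2 (a : G) a.2.1)⟩⟩

/-- An element of `S` with trivial `n`-th power centralizing a member of `maxIn n S` lies in it. -/
theorem mem_of_centralizes [Finite G] {n : ℕ} {S A : Subgroup G} (hA : A ∈ maxIn n S) {w : G}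
    (hwS : w ∈ S) (hwn : w ^ n = 1) (hc : ∀ a ∈ A, a * w = w * a) : w ∈ A := by
  have hB : IsExpAbelian n (A ⊔ zpowers w) := by
    have hcl : A ⊔ zpowers w ≤ centralizer ((A ⊔ zpowers w : Subgroup G) : Set G) := by
      refine sup_le ?_ ?_
      · rw [le_centralizer_iff]
        refine sup_le (fun a ha => mem_centralizer_iff.2 fun c hcA => ?_) ?_
        · exact commute_of_mem_isMulCommutative hA.2.1.1 hcA ha
        · rw [zpowers_le]; exact mem_centralizer_iff.2 hc
      · rw [zpowers_le]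
        refine mem_centralizer_iff.2 fun y hy => ?_
        have hle : A ⊔ zpowers w ≤ centralizer {w} := sup_le
          (fun a ha => mem_centralizer_singleton_iff.2 (hc a ha))
          (zpowers_le.2 (mem_centralizer_singleton_iff.2 rfl))
        exact mem_centralizer_singleton_iff.1 (hle hy)
    refine ⟨⟨⟨fun a b => Subtype.ext (mem_centralizer_iff.1 (hcl b.2) a a.2)⟩⟩, fun y hy => ?_⟩
    rw [sup_eq_closure] at hy
    have hy' := hy
    induction hy using closure_induction with
    | mem z hz =>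
      rcases hz with hz | hz
      · exact hA.2.1.2 z hz
      · obtain ⟨k, rfl⟩ := hz
        rw [← zpow_natCast, ← zpow_mul, mul_comm, zpow_mul, zpow_natCast, hwn, one_zpow]
    | one => exact one_pow n
    | mul a b ha hb iha ihb =>
      have hcab : Commute a b := mem_centralizer_iff.1 (hcl (by rwa [sup_eq_closure]))
        a (by rw [SetLike.mem_coe, sup_eq_closure]; exact ha)
      rw [hcab.mul_pow, iha ha, ihb hb, one_mul]
    | inv a ha iha => rw [inv_pow, iha ha, inv_one]
  have h1 := hA.2.2 _ (sup_le hA.1 (zpowers_le.2 hwS)) hB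
  have h2 : A = A ⊔ zpowers w := eq_of_le_of_card_ge le_sup_left h1
  rw [h2]
  exact mem_sup_right (mem_zpowers w)

theorem maxIn_of_le [Finite G] {n : ℕ} {R S : Subgroup G} (hRS : R ≤ S) (hJ : jay n S ≤ R) :
    maxIn n R = maxIn n S := by
  obtain ⟨A, hA, hAmax⟩ := Set.Finite.exists_maximalFor (fun A : Subgroup G => Nat.card A)
    {A : Subgroup G | A ≤ S ∧ IsExpAbelian n A} (Set.toFinite _)
    ⟨⊥, bot_le, inferInstance, fun a ha => by rw [mem_bot.1 ha, one_pow]⟩
  have hmax : ∀ B, B ≤ S → IsExpAbelian n B → Nat.card B ≤ Nat.card A := fun B hB hBe =>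
    (le_total (Nat.card B) (Nat.card A)).elim id fun h => hAmax ⟨hB, hBe⟩ h
  have hAJ : A ≤ R := (le_sSup (show A ∈ maxIn n S from ⟨hA.1, hA.2, hmax⟩)).trans hJ
  ext B
  constructor
  · rintro ⟨hBR, hBe, hBmax⟩
    exact ⟨hBR.trans hRS, hBe, fun C hC hCe => (hmax C hC hCe).trans (hBmax A hAJ hA.2)⟩
  · intro hB
    exact ⟨(le_sSup hB).trans hJ, hB.2.1, fun C hC hCe => hB.2.2 C (hC.trans hRS) hCe⟩

variable [Finite G] {p : ℕ} [Fact p.Prime]

/-- For `n = 0` or `n = p` the elements with trivial `n`-th power of a class two subgroup of odd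
`p`-power order form a subgroup. -/
def expSubgroup (n : ℕ) (hn : n = 0 ∨ n = p) (hp2 : p ≠ 2) (B : Subgroup G)
    (hc : ∀ u ∈ B, ∀ v ∈ B, ∀ w ∈ B, Commute ⁅u, v⁆ w) : Subgroup G where
  carrier := {b | b ∈ B ∧ b ^ n = 1}
  one_mem' := ⟨one_mem _, one_pow n⟩
  inv_mem' := fun {a} ha => ⟨inv_mem ha.1, by rw [inv_pow, ha.2, inv_one]⟩
  mul_mem' := fun {a b} ha hb => ⟨mul_mem ha.1 hb.1, by
    rcases hn with hn0 | hnp
    · rw [hn0]; exact pow_zero _
    · rw [hnp] at ha hb ⊢
      have hmem : (⁅(⟨b, hb.1⟩ : B), ⟨a, ha.1⟩⁆ : B) ∈ center B := mem_center_iff.2 fun w =>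
        Subtype.ext (hc b hb.1 a ha.1 w w.2).eq.symm
      have h := HallHigman.mul_pow_class_two (⟨a, ha.1⟩ : B) ⟨b, hb.1⟩ hmem p
      have h1 := congrArg Subtype.val h
      simp only [coe_mul, SubmonoidClass.coe_pow, ha.2, hb.2, one_mul] at h1
      rw [h1]
      have h2 : (⁅(⟨b, hb.1⟩ : B), ⟨a, ha.1⟩⁆ : B) ^ p = 1 := by
        rw [← HallHigman.commutatorElement_pow_class_two hmem]
        have : (⟨b, hb.1⟩ : B) ^ p = 1 := Subtype.ext hb.2
        rw [this, commutatorElement_one_left]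
      obtain ⟨k, hk⟩ := (Fact.out : p.Prime).dvd_choose_self (k := 2) two_ne_zero
        (lt_of_le_of_ne (Fact.out : p.Prime).two_le (Ne.symm hp2))
      rw [← SubmonoidClass.coe_pow, hk, pow_mul, h2, one_pow, OneMemClass.coe_one]⟩

/-- A `p'`-element centralizing the elements of order `p` of a class two `p`-group (`p` odd)
centralizes the group. -/
theorem commute_of_commute_expSubgroup (hp2 : p ≠ 2) {n : ℕ} (hn : n = 0 ∨ n = p) {B : Subgroup G}
    (hB : IsPGroup p B) (hc : ∀ u ∈ B, ∀ v ∈ B, ∀ w ∈ B, Commute ⁅u, v⁆ w) {h : G}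
    (hh : h ∈ normalizer (B : Set G)) (hcop : (orderOf h).Coprime p)
    (hV : ∀ b ∈ B, b ^ n = 1 → Commute h b) : ∀ b ∈ B, Commute h b := by
  rcases hn with hn0 | hnp
  · exact fun b hb => hV b hb (by rw [hn0, pow_zero])
  rw [hnp] at hV
  suffices key : ∀ k : ℕ, ∀ b ∈ B, b ^ (p ^ k) = 1 → Commute h b by
    intro b hb
    obtain ⟨k, hk⟩ := hB ⟨b, hb⟩
    exact key k b hb (congrArg Subtype.val hk)
  intro k
  induction k with
  | zero => intro b _ hb1; rw [pow_zero, pow_one] at hb1; subst hb1; exact Commute.one_right h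
  | succ k ih =>
    intro b hb hb1
    set d := h * b * h⁻¹ with hd
    have hdB : d ∈ B := (mem_normalizer_iff.1 hh b).1 hb
    have hdp : d ^ p = b ^ p := by
      rw [hd, conj_pow, (ih (b ^ p) (pow_mem hb p) (by rw [← pow_mul, ← pow_succ']; exact hb1)).eq,
        mul_inv_cancel_right]
    have hmem : (⁅(⟨d, hdB⟩ : B), (⟨b, hb⟩ : B)⁻¹⁆ : B) ∈ center B := mem_center_iff.2 fun w =>
      Subtype.ext (hc d hdB _ (inv_mem hb) w w.2).eq.symm
    have hpow : (b⁻¹ * d) ^ p = 1 := by
      have h1 := congrArg Subtype.val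
        (HallHigman.mul_pow_class_two ((⟨b, hb⟩ : B)⁻¹) ⟨d, hdB⟩ hmem p)
      have h2 : (⁅(⟨d, hdB⟩ : B), (⟨b, hb⟩ : B)⁻¹⁆ : B) ^ p = 1 := by
        rw [← HallHigman.commutatorElement_pow_class_two hmem]
        have : (⟨d, hdB⟩ : B) ^ p = (⟨b, hb⟩ : B) ^ p := Subtype.ext hdp
        rw [this, commutatorElement_eq_one_iff_commute]
        exact ((Commute.refl _).pow_left p).inv_right
      obtain ⟨j, hj⟩ := (Fact.out : p.Prime).dvd_choose_self (k := 2) two_ne_zero
        (lt_of_le_of_ne (Fact.out : p.Prime).two_le (Ne.symm hp2))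
      rw [hj, pow_mul, h2, one_pow, mul_one] at h1
      simp only [coe_mul, coe_inv, SubmonoidClass.coe_pow, inv_pow, hdp, inv_mul_cancel] at h1
      exact h1
    have h3 : Commute h (b⁻¹ * d) := hV _ (mul_mem (inv_mem hb) hdB) hpow
    have hcB : ⁅h, b⁆ ∈ B := by
      rw [commutatorElement_def]; exact mul_mem hdB (inv_mem hb)
    have h4 : Commute h ⁅h, b⁆ := hV _ hcB (by
      have e : ⁅h, b⁆ = b * (b⁻¹ * d) * b⁻¹ := by rw [commutatorElement_def, hd]; group
      rw [e, conj_pow, hpow, mul_one, mul_inv_cancel])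
    obtain ⟨m, hm⟩ := IsPGroup.iff_card.1 hB
    exact Stab.commute_of_stab_mem h4 hcB (by rw [hm]; exact hcop.pow_right m)

/-- Normal subgroups `C₁ ≤ C₂` with every `p'`-element of `C₂` in `C₁` have `p`-power index. -/
theorem relIndex_eq_pow_of_coprime_mem {C₁ C₂ : Subgroup G} [C₁.Normal] (hle : C₁ ≤ C₂)
    (h : ∀ x ∈ C₂, (orderOf x).Coprime p → x ∈ C₁) : ∃ k, C₁.relIndex C₂ = p ^ k := by
  refine ⟨(C₁.relIndex C₂).factorization p, ?_⟩
  by_contra hne
  set r := C₁.relIndex C₂ with hr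
  have hr0 : r ≠ 0 := index_ne_zero_of_finite
  obtain ⟨q, hq, hqdvd⟩ : ∃ q, q.Prime ∧ q ∣ r / p ^ r.factorization p := by
    refine Nat.exists_prime_and_dvd fun h1 => hne ?_
    have := Nat.ordProj_mul_ordCompl_eq_self r p
    rw [h1, mul_one] at this
    exact this.symm
  haveI := Fact.mk hq
  have hqp : q ≠ p := fun e => Nat.not_dvd_ordCompl Fact.out hr0 (e ▸ hqdvd)
  obtain ⟨x, hx⟩ := exists_prime_orderOf_dvd_card' q
    (G := C₂ ⧸ C₁.subgroupOf C₂) (hqdvd.trans (Nat.ordCompl_dvd r p))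
  obtain ⟨y, rfl⟩ := QuotientGroup.mk'_surjective _ x
  set o := orderOf (y : G) with ho
  have hy : y ^ (p ^ o.factorization p) ∈ C₁.subgroupOf C₂ := by
    refine mem_subgroupOf.2 (h _ (y ^ (p ^ o.factorization p) : C₂).2 ?_)
    rw [SubmonoidClass.coe_pow, orderOf_pow_of_dvd (pow_ne_zero _ (Fact.out : p.Prime).ne_zero)
      (Nat.ordProj_dvd o p), Nat.coprime_comm, (Fact.out : p.Prime).coprime_iff_not_dvd]
    exact Nat.not_dvd_ordCompl Fact.out (orderOf_pos _).ne'
  have h1 : (QuotientGroup.mk' (C₁.subgroupOf C₂) y) ^ (p ^ o.factorization p) = 1 := by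
    rw [← map_pow, QuotientGroup.mk'_apply, QuotientGroup.eq_one_iff]; exact hy
  have h2 := orderOf_dvd_of_pow_eq_one h1
  rw [hx] at h2
  exact hqp ((Nat.prime_dvd_prime_iff_eq hq Fact.out).1 (hq.dvd_of_dvd_pow h2))

/-- If `C₂/C₁` is a `p`-group then the preimage of `O_p(G/C₂)` is covered by `C₁` and a Sylow
subgroup. -/
theorem comap_pCore_le_sylow_sup (S : Sylow p G) {C₁ C₂ : Subgroup G} [C₁.Normal] [C₂.Normal]
    (hle : C₁ ≤ C₂) {k : ℕ} (hk : C₁.relIndex C₂ = p ^ k) :
    (pCore p (G ⧸ C₂)).comap (QuotientGroup.mk' C₂) ≤ (S : Subgroup G) ⊔ C₁ := by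
  set D := (pCore p (G ⧸ C₂)).comap (QuotientGroup.mk' C₂) with hD
  haveI : D.Normal := Subgroup.Normal.comap inferInstance _
  have hCD : C₂ ≤ D := fun c hc => by
    rw [hD, mem_comap, QuotientGroup.mk'_apply, (QuotientGroup.eq_one_iff c).2 hc]
    exact one_mem _
  obtain ⟨j, hj⟩ := IsPGroup.iff_card.1 (PLocal.isPGroup_pCore p (G ⧸ C₂))
  have hrel : C₂.relIndex D = p ^ j := by
    have h := relIndex_ker (K := D) (QuotientGroup.mk' C₂)
    rw [QuotientGroup.ker_mk', hD,
      map_comap_eq_self_of_surjective (QuotientGroup.mk'_surjective C₂)] at h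
    exact h.trans hj
  have htot : C₁.relIndex D = p ^ (k + j) := by
    rw [← relIndex_mul_relIndex C₁ C₂ D hle hCD, hk, hrel, ← pow_add]
  exact (PLocal.le_inf_sylow_sup S (hle.trans hCD) htot).trans (sup_le_sup_right inf_le_right _)

/-- The inductive step of Glauberman's theorem: a class two normal subgroup meets `ZJ` normally. -/
theorem inf_zjay_normal_of_class_two (hp2 : p ≠ 2) (hst : QuadraticStable p G) {n : ℕ}
    (hn : n = 0 ∨ n = p) (S : Sylow p G) {B : Subgroup G} [B.Normal] (hBS : B ≤ S)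
    (hgen : normalClosure ((B ⊓ zjay n (S : Subgroup G) : Subgroup G) : Set G) = B)
    (hder : ⁅B, B⁆ ≤ zjay n (S : Subgroup G))
    (hc : ∀ u ∈ B, ∀ v ∈ B, ∀ w ∈ B, Commute ⁅u, v⁆ w) :
    (B ⊓ zjay n (S : Subgroup G)).Normal := by
  set Z := zjay n (S : Subgroup G) with hZ
  set Y := B ⊓ Z with hY
  have hBp : IsPGroup p B := S.isPGroup'.to_le hBS
  set L := (normalizer (Y : Set G)).normalCore with hL
  have hBN : centralizer (B : Set G) ≤ normalizer (Y : Set G) :=
    (centralizer_le (inf_le_left : Y ≤ B)).trans (centralizer_le_normalizer _)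
  have hSN : (S : Subgroup G) ≤ normalizer (Y : Set G) := fun g hg => by
    refine LocalStructure.mem_normalizer_of_forall fun y hy => mem_inf.2 ⟨?_, ?_⟩
    · exact (inferInstance : B.Normal).conj_mem y hy.1 g
    · exact (mem_normalizer_iff.1 (normalizer_le_normalizer_zjay n _ (le_normalizer hg)) y).1 hy.2
  set V := expSubgroup n hn hp2 B hc with hVdef
  have hVB : V ≤ B := fun v hv => hv.1
  haveI hVn : V.Normal := ⟨fun v hv g => ⟨(inferInstance : B.Normal).conj_mem v hv.1 g, by
    rw [conj_pow, hv.2]; simp⟩⟩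
  -- quadratic elements of `S` on `V` lie in `L`
  have hquadL : ∀ a : G, (∀ w ∈ V, Commute ⁅w, a⁆ a) → a ∈ L := by
    intro a ha
    have hCle : centralizer (B : Set G) ≤ centralizer (V : Set G) := centralizer_le hVB
    obtain ⟨k, hk⟩ := relIndex_eq_pow_of_coprime_mem (p := p) hCle fun x hx hxo => by
      refine mem_centralizer_iff.2 fun b hb => (commute_of_commute_expSubgroup hp2 hn hBp hc
        (by rw [normalizer_eq_top]; exact mem_top x) hxo (fun v hv hvn =>
          (mem_centralizer_iff.1 hx v ⟨hv, hvn⟩).symm) b hb).eq.symm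
    have hle : (pCore p (G ⧸ centralizer (V : Set G))).comap
        (QuotientGroup.mk' (centralizer (V : Set G))) ≤ L := by
      haveI : ((pCore p (G ⧸ centralizer (V : Set G))).comap
        (QuotientGroup.mk' (centralizer (V : Set G)))).Normal :=
          Subgroup.Normal.comap inferInstance _
      rw [hL]
      exact normal_le_normalCore.2 ((comap_pCore_le_sylow_sup S hCle hk).trans (sup_le hSN hBN))
    exact hle (hst V (hBp.to_le hVB) a ha)
  have hodd : ∀ v ∈ V, v * v = 1 → v = 1 := by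
    intro v hv hv2
    obtain ⟨k, hk⟩ := hBp ⟨v, hVB hv⟩
    have h1 : v ^ p ^ k = 1 := congrArg Subtype.val hk
    have hcop : (2 : ℕ).Coprime (p ^ k) :=
      ((Nat.coprime_primes Nat.prime_two Fact.out).2 (Ne.symm hp2)).pow_right k
    exact orderOf_eq_one_iff.1 (Nat.eq_one_of_dvd_coprimes hcop
      (orderOf_dvd_of_pow_eq_one ((pow_two v).trans hv2)) (orderOf_dvd_of_pow_eq_one h1))
  -- all members lie in `L`
  have hJL : jay n (S : Subgroup G) ≤ L := by
    by_contra hcon
    obtain ⟨A₀, hA₀, hA₀L⟩ : ∃ A ∈ maxIn n (S : Subgroup G), ¬ A ≤ L := by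
      by_contra h
      push_neg at h
      exact hcon (sSup_le h)
    obtain ⟨A, ⟨hA, hAL⟩, hAmax⟩ := Set.Finite.exists_maximalFor
      (fun A : Subgroup G => Nat.card ↥(A ⊓ V))
      {A | A ∈ maxIn n (S : Subgroup G) ∧ ¬ A ≤ L} (Set.toFinite _) ⟨A₀, hA₀, hA₀L⟩
    have hAVn : A ≤ normalizer (V : Set G) := by rw [normalizer_eq_top]; exact le_top
    -- a subgroup of `V` normalising `A` makes `A` quadratic
    have hnotN : ¬ V ≤ normalizer (A : Set G) := fun hVA => hAL fun a ha => hquadL a fun w hw =>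
      Quad.commute_commutator_of_abelian hA.2.1.1 hVA ha hw
    have hVVA : ⁅V, V⁆ ≤ A := by
      refine commutator_le.2 fun u hu v hv => ?_
      have hw : ⁅u, v⁆ ∈ Z := hder (commutator_mem_commutator (hVB hu) (hVB hv))
      have hwV : ⁅u, v⁆ ∈ V := by
        rw [commutatorElement_def]
        exact mul_mem (mul_mem (mul_mem hu hv) (inv_mem hu)) (inv_mem hv)
      exact mem_of_centralizes hA (zjay_le n _ hw) hwV.2 fun a ha =>
        mem_centralizer_iff.1 hw.2 a (le_sSup (α := Subgroup G) hA ha)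
    obtain ⟨x, hxV, hxA, hxstep⟩ := exists_step_element (p := p) S.isPGroup' hA.1
      (hVB.trans hBS) hAVn hnotN
    have hstep : Step A V x := ⟨hA.2.1.1, hAVn, hVVA,
      fun u hu v hv w hw => hc u (hVB hu) v (hVB hv) w (hVB hw), hxV, hxstep⟩
    obtain ⟨h1, h2, h3, h4, h5, h6⟩ := hstep.replace hodd hxA
    set A' := replaceAt A x with hA'
    have hA'S : A' ≤ S := h6.trans (sup_le hA.1 (hVB.trans hBS))
    have hA'e : IsExpAbelian n A' := by
      refine ⟨h1, ?_⟩
      intro y hy
      rw [hA', replaceAt, sup_eq_closure] at hy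
      have hy' : y ∈ closure ((commWith A x : Set G) ∪ (A ⊓ centralizer (commWith A x : Set G) : Subgroup G)) := hy
      clear hy
      induction hy' using closure_induction with
      | mem z hz =>
        rcases hz with hz | hz
        · exact (h5 hz).2
        · exact hA.2.1.2 z hz.1
      | one => exact one_pow n
      | mul a b ha hb iha ihb =>
        have hcab : Commute a b := commute_of_mem_isMulCommutative h1
          (by rw [hA', replaceAt, sup_eq_closure]; exact ha)
          (by rw [hA', replaceAt, sup_eq_closure]; exact hb)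
        rw [hcab.mul_pow, iha, ihb, one_mul]
      | inv a ha iha => rw [inv_pow, iha, inv_one]
    have hA'max : A' ∈ maxIn n (S : Subgroup G) :=
      ⟨hA'S, hA'e, fun C hC hCe => (hA.2.2 C hC hCe).trans h2⟩
    have hlt : Nat.card ↥(A ⊓ V) < Nat.card ↥(A' ⊓ V) :=
      Set.ncard_lt_ncard (SetLike.coe_ssubset_coe.2 h3) |> fun h => by
        simpa only [← Nat.card_coe_set_eq, SetLike.coe_sort_coe] using h
    have hA'L : A' ≤ L := by
      by_contra hA'n
      exact absurd (hAmax ⟨hA'max, hA'n⟩ hlt.le) (not_le.2 hlt)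
    -- Frattini
    set R := (S : Subgroup G) ⊓ L with hR
    haveI : L.Normal := normalCore_normal _
    obtain ⟨Q, hQ⟩ := UniqueMaximal.exists_sylow_map_eq_inf L S
    have htop : normalizer (R : Set G) ⊔ L = ⊤ := by
      rw [hR, ← hQ]; exact Sylow.normalizer_sup_eq_top Q
    set X := centralizer (jay n R : Set G) with hX
    have hJR : jay n R ≤ jay n (S : Subgroup G) := by
      refine sSup_le fun C hC => le_sSup ?_
      have hA'R : A' ≤ R := le_inf hA'S hA'L
      exact ⟨hC.1.trans inf_le_left, hC.2.1,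
        fun D hD hDe => (hA'max.2.2 D hD hDe).trans (hC.2.2 A' hA'R hA'e)⟩
    have hA'JR : A' ≤ jay n R := le_sSup
      ⟨le_inf hA'S hA'L, hA'e, fun D hD hDe => hA'max.2.2 D (hD.trans inf_le_left) hDe⟩
    have hYX : Y ≤ X := (inf_le_right.trans inf_le_right).trans (centralizer_le hJR)
    have hconj : ∀ g : G, ∀ y ∈ Y, g * y * g⁻¹ ∈ X := by
      intro g y hy
      have hg : g ∈ normalizer (R : Set G) ⊔ L := htop ▸ mem_top g
      rw [← SetLike.mem_coe, mul_normal] at hg
      obtain ⟨m, hm, l, hl, rfl⟩ := hg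
      have hl' : l ∈ normalizer (Y : Set G) := normalCore_le _ hl
      have h7 : l * y * l⁻¹ ∈ Y := (mem_normalizer_iff.1 hl' y).1 hy
      have h8 : m ∈ normalizer (jay n R : Set G) := normalizer_le_normalizer_jay n R hm
      have e : m * l * y * (m * l)⁻¹ = m * (l * y * l⁻¹) * m⁻¹ := by group
      rw [e]
      refine mem_centralizer_iff.2 fun z hz => ?_
      have hz' := mem_centralizer_iff.1 (hYX h7) _ ((mem_normalizer_iff''.1 h8 z).1 hz)
      simpa [mul_assoc] using congrArg (fun t => m * t * m⁻¹) hz'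
    have hBX : B ≤ X := by
      rw [← hgen, normalClosure, closure_le]
      intro z hz
      obtain ⟨y, hy, hyz⟩ := Group.mem_conjugatesOfSet_iff.1 hz
      obtain ⟨g, rfl⟩ := isConj_iff.1 hyz
      exact hconj g y hy
    have hVA' : V ≤ A' := fun v hv => mem_of_centralizes hA'max (hBS (hVB hv)) hv.2 fun a ha =>
      mem_centralizer_iff.1 (hBX (hVB hv)) a (hA'JR ha)
    exact hnotN (hVA'.trans h4)
  -- conclude
  set R := (S : Subgroup G) ⊓ L with hR
  haveI : L.Normal := normalCore_normal _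
  obtain ⟨Q, hQ⟩ := UniqueMaximal.exists_sylow_map_eq_inf L S
  have htop := Sylow.normalizer_sup_eq_top Q
  rw [hQ] at htop
  have hN : normalizer (((S : Subgroup G) ⊓ L : Subgroup G) : Set G) ≤ normalizer (Y : Set G) := by
    intro g hg
    have hZR : zjay n ((S : Subgroup G) ⊓ L) = Z := by
      rw [hZ, zjay, zjay, jay, jay, maxIn_of_le inf_le_left (le_inf (jay_le n _) hJL)]
    refine LocalStructure.mem_normalizer_of_forall fun y hy => mem_inf.2 ⟨?_, ?_⟩
    · exact (inferInstance : B.Normal).conj_mem y hy.1 g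
    · have := normalizer_le_normalizer_zjay n _ hg
      rw [hZR] at this
      exact (mem_normalizer_iff.1 this y).1 hy.2
  rw [← normalizer_eq_top_iff, eq_top_iff, ← htop]
  exact sup_le hN (normalCore_le _)

/-- **Glauberman**: normal `p`-subgroups meet `ZJ(S)` in normal subgroups. -/
theorem inf_zjay_normal (hp2 : p ≠ 2) (hst : QuadraticStable p G) {n : ℕ} (hn : n = 0 ∨ n = p)
    (S : Sylow p G) : ∀ (B : Subgroup G) [B.Normal], B ≤ S → (B ⊓ zjay n (S : Subgroup G)).Normal := by
  intro B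
  induction hm : Nat.card B using Nat.strongRecOn generalizing B with | ind m ih => ?_
  intro _ hBS
  subst hm
  set Z := zjay n (S : Subgroup G) with hZ
  set B₁ := normalClosure ((B ⊓ Z : Subgroup G) : Set G) with hB₁
  have hB₁B : B₁ ≤ B := normalClosure_le_normal inf_le_left
  rcases lt_or_eq_of_le hB₁B with hlt | heq
  · have := ih (Nat.card B₁) (lt_of_not_ge fun h => hlt.ne (eq_of_le_of_card_ge hB₁B h)) B₁ rfl
      (hB₁B.trans hBS)
    have e : B₁ ⊓ Z = B ⊓ Z := le_antisymm (inf_le_inf_right _ hB₁B)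
      (le_inf (le_normalClosure) inf_le_right)
    rwa [e] at this
  rcases eq_or_ne B ⊥ with hbot | hne
  · rw [hbot, bot_inf_eq]; infer_instance
  have hBp : IsPGroup p B := S.isPGroup'.to_le hBS
  have hlt : ⁅B, B⁆ < B := CfsgLib.Coprime.commutator_lt_of_isPGroup hBp hBp le_normalizer hne
  haveI hYn : (⁅B, B⁆ ⊓ Z).Normal :=
    ih (Nat.card ↥⁅B, B⁆) (lt_of_not_ge fun h => hlt.ne (eq_of_le_of_card_ge hlt.le h)) ⁅B, B⁆ rfl
      (hlt.le.trans hBS)
  set Y := ⁅B, B⁆ ⊓ Z with hY
  set K := (centralizer ((B.map (QuotientGroup.mk' Y) : Subgroup (G ⧸ Y)) : Set (G ⧸ Y))).comap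
    (QuotientGroup.mk' Y) with hK
  haveI : (B.map (QuotientGroup.mk' Y)).Normal :=
    Subgroup.Normal.map inferInstance _ (QuotientGroup.mk'_surjective Y)
  haveI : K.Normal := Subgroup.Normal.comap inferInstance _
  have hmemK : ∀ g : G, g ∈ K ↔ ∀ b ∈ B, ⁅g, b⁆ ∈ Y := by
    intro g
    rw [hK, mem_comap, mem_centralizer_iff]
    constructor
    · intro h b hb
      rw [← QuotientGroup.eq_one_iff, ← QuotientGroup.mk'_apply, map_commutatorElement,
        commutatorElement_eq_one_iff_commute]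
      exact (h _ (mem_map_of_mem _ hb)).symm
    · rintro h _ ⟨b, hb, rfl⟩
      have h1 := h b hb
      rw [← QuotientGroup.eq_one_iff, ← QuotientGroup.mk'_apply, map_commutatorElement,
        commutatorElement_eq_one_iff_commute] at h1
      exact h1.eq.symm
  have hBK : B ≤ K := by
    rw [← heq]
    refine normalClosure_le_normal fun z hz => (hmemK z).2 fun b hb => mem_inf.2 ⟨?_, ?_⟩
    · exact commutator_mem_commutator hz.1 hb
    · rw [commutatorElement_def, mul_assoc, mul_assoc]
      refine mul_mem hz.2 ?_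
      rw [← mul_assoc]
      exact (mem_normalizer_iff.1 (normalizer_le_normalizer_zjay n _
        (le_normalizer (hBS hb))) _).1 (inv_mem hz.2)
  have hder : ⁅B, B⁆ ≤ Z := commutator_le.2 fun u hu v hv => ((hmemK u).1 (hBK hu) v hv).2
  have hcent : B ≤ centralizer ((⁅B, B⁆ : Subgroup G) : Set G) := by
    conv_lhs => rw [← heq]
    refine normalClosure_le_normal fun z hz => mem_centralizer_iff.2 fun w hw => ?_
    exact congrArg Subtype.val ((zjay_comm n (S : Subgroup G)).is_comm.comm ⟨w, hder hw⟩ ⟨z, hz.2⟩)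
  exact inf_zjay_normal_of_class_two hp2 hst hn S hBS heq hder fun u hu v hv w hw =>
    mem_centralizer_iff.1 (hcent hw) _ (commutator_mem_commutator hu hv)

end CfsgLib.OddOrder.ZJ
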