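import Cfsg.Agent.LocalEvenBasic.Replacement
import Cfsg.Agent.LocalStructure.CharP
import Cfsg.Agent.Coprime.PTimesQ

/-!
# Glauberman's replacement theorem (class two, no involutions)

For an abelian `A` normalising `V`, where `V` has class at most two and `[V,V] ≤ A`, the commutators
`[a, x]` of an element `x ∈ V` commute as soon as they normalise `A`; hence the replacement
`replaceAt A x` is abelian, at least as large as `A`, meets `V` in more and normalises `A`.
-/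

set_option autoImplicit false
open scoped commutatorElement

namespace CfsgLib.OddOrder.ZJ

open Subgroup CfsgLib.LocalEvenBasic

variable {G : Type*} [Group G] {A V : Subgroup G}

/-- Left linearity of commutators in class two. -/
theorem commutatorElement_mul_left_of_central
    (hc : ∀ u ∈ V, ∀ v ∈ V, ∀ w ∈ V, Commute ⁅u, v⁆ w)
    {u v w : G} (hu : u ∈ V) (hv : v ∈ V) (hw : w ∈ V) :
    ⁅u * v, w⁆ = ⁅u, w⁆ * ⁅v, w⁆ := by
  have h1 : ⁅u * v, w⁆ = u * ⁅v, w⁆ * u⁻¹ * ⁅u, w⁆ := by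
    simp only [commutatorElement_def]; group
  have hm : ⁅u, w⁆ ∈ V := by
    rw [commutatorElement_def]
    exact mul_mem (mul_mem (mul_mem hu hw) (inv_mem hu)) (inv_mem hw)
  rw [h1, ← (hc v hv w hw u hu).eq, mul_inv_cancel_right, (hc v hv w hw _ hm).eq]

/-- Right linearity of commutators in class two. -/
theorem commutatorElement_mul_right_of_central
    (hc : ∀ u ∈ V, ∀ v ∈ V, ∀ w ∈ V, Commute ⁅u, v⁆ w)
    {u v w : G} (hu : u ∈ V) (hv : v ∈ V) (hw : w ∈ V) :
    ⁅u, v * w⁆ = ⁅u, v⁆ * ⁅u, w⁆ := by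
  have h1 : ⁅u, v * w⁆ = ⁅u, v⁆ * (v * ⁅u, w⁆ * v⁻¹) := by
    simp only [commutatorElement_def]; group
  rw [h1, ← (hc u hu w hw v hv).eq, mul_inv_cancel_right]

/-- The data for the replacement step. -/
structure Step (A V : Subgroup G) (x : G) : Prop where
  comm : IsMulCommutative A
  norm : A ≤ normalizer (V : Set G)
  le : ⁅V, V⁆ ≤ A
  central : ∀ u ∈ V, ∀ v ∈ V, ∀ w ∈ V, Commute ⁅u, v⁆ w
  mem : x ∈ V
  step : ∀ a ∈ A, a * x * a⁻¹ * x⁻¹ ∈ normalizer (A : Set G)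

variable {x : G}

theorem Step.comm_mem (h : Step A V x) {a b : G} (ha : a ∈ A) (hb : b ∈ A) : a * b = b * a :=
  commute_of_mem_isMulCommutative h.comm ha hb

theorem Step.f_mem (h : Step A V x) {a : G} (ha : a ∈ A) : a * x * a⁻¹ * x⁻¹ ∈ V :=
  mul_mem ((mem_normalizer_iff.1 (h.norm ha) x).1 h.mem) (inv_mem h.mem)

theorem Step.c_mem (h : Step A V x) {a v : G} (ha : a ∈ A) (hv : v ∈ V)
    (hvA : v ∈ normalizer (A : Set G)) : a * v * a⁻¹ * v⁻¹ ∈ A ⊓ V :=
  mem_inf.2 ⟨by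
    have e : a * v * a⁻¹ * v⁻¹ = a * (v * a⁻¹ * v⁻¹) := by group
    rw [e]
    exact mul_mem ha ((mem_normalizer_iff.1 hvA _).1 (inv_mem ha)),
    mul_mem ((mem_normalizer_iff.1 (h.norm ha) v).1 hv) (inv_mem hv)⟩

theorem Step.conj_commutator (h : Step A V x) {a u v : G} (ha : a ∈ A) (hu : u ∈ V) (hv : v ∈ V) :
    ⁅a * u * a⁻¹, a * v * a⁻¹⁆ = ⁅u, v⁆ := by
  have h1 : ⁅a * u * a⁻¹, a * v * a⁻¹⁆ = a * ⁅u, v⁆ * a⁻¹ := by
    simp only [commutatorElement_def]; group
  rw [h1, h.comm_mem ha (h.le (commutator_mem_commutator hu hv)), mul_inv_cancel_right]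

theorem Step.f_commute_inf (h : Step A V x) {a w : G} (ha : a ∈ A) (hw : w ∈ A ⊓ V) :
    Commute (a * x * a⁻¹ * x⁻¹) w := by
  obtain ⟨hwA, hwV⟩ := mem_inf.1 hw
  have e1 : a * x * a⁻¹ = (a * x * a⁻¹ * x⁻¹) * x := by group
  have e2 : a * w * a⁻¹ = w := by rw [h.comm_mem ha hwA, mul_inv_cancel_right]
  have h1 := h.conj_commutator ha h.mem hwV
  rw [e2, e1, commutatorElement_mul_left_of_central h.central (h.f_mem ha) h.mem hwV] at h1
  exact commutatorElement_eq_one_iff_commute.1 (mul_right_cancel (h1.trans (one_mul _).symm))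

/-- The commutators `[a, x]` commute. -/
theorem Step.f_commute (h : Step A V x) (hodd : ∀ v ∈ V, v * v = 1 → v = 1) {a b : G}
    (ha : a ∈ A) (hb : b ∈ A) :
    Commute (a * x * a⁻¹ * x⁻¹) (b * x * b⁻¹ * x⁻¹) := by
  set u := a * x * a⁻¹ * x⁻¹ with hu
  set v := b * x * b⁻¹ * x⁻¹ with hv
  set c₁ := a * v * a⁻¹ * v⁻¹ with hc₁
  set c₂ := b * u * b⁻¹ * u⁻¹ with hc₂
  have huV := h.f_mem ha
  have hvV := h.f_mem hb
  rw [← hu] at huV
  rw [← hv] at hvV
  have hc₁m : c₁ ∈ A ⊓ V := h.c_mem ha hvV (h.step b hb)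
  have hc₂m : c₂ ∈ A ⊓ V := h.c_mem hb huV (h.step a ha)
  have hc₁V := (mem_inf.1 hc₁m).2
  have hc₂V := (mem_inf.1 hc₂m).2
  have hswap : c₁ * v * u = c₂ * u * v := by
    have e1 : c₁ * v * u = a * b * x * (a * b)⁻¹ * x⁻¹ := by
      rw [hc₁, hv, hu]; group
    have e2 : c₂ * u * v = b * a * x * (b * a)⁻¹ * x⁻¹ := by
      rw [hc₂, hv, hu]; group
    rw [e1, e2, h.comm_mem ha hb]
  have h2 : ⁅v, u⁆ = c₁⁻¹ * c₂ := by
    have e : v * u = c₁⁻¹ * (c₂ * u * v) := by rw [← hswap]; group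
    rw [commutatorElement_def, e]; group
  have key : ∀ a' ∈ A, ∀ v' ∈ V, Commute (a' * x * a'⁻¹ * x⁻¹) (a' * v' * a'⁻¹ * v'⁻¹) →
      a' * v' * a'⁻¹ * v'⁻¹ ∈ V →
      ⁅a' * x * a'⁻¹ * x⁻¹, v'⁆ * ⁅x, a' * v' * a'⁻¹ * v'⁻¹⁆ = 1 := by
    intro a' ha' v' hv' hcom hmem
    have h1 := h.conj_commutator ha' h.mem hv'
    have e1 : a' * x * a'⁻¹ = (a' * x * a'⁻¹ * x⁻¹) * x := by group
    have e2 : a' * v' * a'⁻¹ = (a' * v' * a'⁻¹ * v'⁻¹) * v' := by group
    rw [e1, e2, commutatorElement_mul_left_of_central h.central (h.f_mem ha') h.mem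
      (mul_mem hmem hv'), commutatorElement_mul_right_of_central h.central (h.f_mem ha') hmem hv',
      commutatorElement_mul_right_of_central h.central h.mem hmem hv',
      commutatorElement_eq_one_iff_commute.2 hcom, one_mul, ← mul_assoc] at h1
    exact mul_right_cancel (h1.trans (one_mul _).symm)
  have k1 : ⁅u, v⁆ * ⁅x, c₁⁆ = 1 := key a ha v hvV (h.f_commute_inf ha hc₁m) hc₁V
  have k2 : ⁅v, u⁆ * ⁅x, c₂⁆ = 1 := key b hb u huV (h.f_commute_inf hb hc₂m) hc₂V
  have k3 : ⁅x, c₁⁻¹ * c₂⁆ = 1 := by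
    rw [← h2]
    exact commutatorElement_eq_one_iff_commute.2 (h.central v hvV u huV x h.mem).symm
  have k4 : ⁅x, c₁⁻¹⁆ = ⁅u, v⁆ := by
    have := commutatorElement_mul_right_of_central h.central h.mem hc₁V (inv_mem hc₁V)
    rw [mul_inv_cancel, commutatorElement_one_right] at this
    exact (mul_eq_one_iff_inv_eq.1 this.symm).symm.trans (mul_eq_one_iff_eq_inv.1 k1).symm
  have k5 : ⁅x, c₂⁆ = ⁅u, v⁆ := by
    have := mul_eq_one_iff_inv_eq.1 k2
    rw [← this, commutatorElement_inv]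
  rw [commutatorElement_mul_right_of_central h.central h.mem (inv_mem hc₁V) hc₂V, k4, k5] at k3
  exact commutatorElement_eq_one_iff_commute.1 (hodd _ (by
    rw [commutatorElement_def]
    exact mul_mem (mul_mem (mul_mem huV hvV) (inv_mem huV)) (inv_mem hvV)) k3)

/-- `[A, x] (A ∩ V)`. -/
def Step.target (A V : Subgroup G) (x : G) : Subgroup G := commWith A x ⊔ (A ⊓ V)

theorem Step.target_le (h : Step A V x) : Step.target A V x ≤ V :=
  sup_le (commWith_le fun _ ha => h.f_mem ha) inf_le_right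

theorem Step.f_mem_target (_h : Step A V x) {a : G} (ha : a ∈ A) :
    a * x * a⁻¹ * x⁻¹ ∈ Step.target A V x :=
  mem_sup_left (mem_commWith x ha)

theorem Step.target_comm (h : Step A V x) (hodd : ∀ v ∈ V, v * v = 1 → v = 1) :
    IsMulCommutative (Step.target A V x) := by
  refine LocalEvenBasic.isMulCommutative_sup ?_ ?_ ?_
  · refine isMulCommutative_closure ?_
    rintro _ ⟨a, ha, rfl⟩ _ ⟨b, hb, rfl⟩
    exact (h.f_commute hodd ha hb).eq
  · exact ⟨⟨fun a b => Subtype.ext (h.comm_mem a.2.1 b.2.1)⟩⟩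
  · refine (closure_le _).2 ?_
    rintro _ ⟨a, ha, rfl⟩
    exact mem_centralizer_iff.2 fun w hw => (h.f_commute_inf ha hw).eq.symm

theorem Step.le_normalizer_target [Finite G] (h : Step A V x) :
    A ≤ normalizer (Step.target A V x : Set G) := by
  intro a ha
  have hle : Step.target A V x ≤ (Step.target A V x).comap (MulAut.conj a).toMonoidHom := by
    refine sup_le ((closure_le _).2 ?_) fun w hw => ?_
    · rintro _ ⟨b, hb, rfl⟩
      have e : a * (b * x * b⁻¹ * x⁻¹) * a⁻¹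
          = (a * (b * x * b⁻¹ * x⁻¹) * a⁻¹ * (b * x * b⁻¹ * x⁻¹)⁻¹) * (b * x * b⁻¹ * x⁻¹) := by group
      show a * (b * x * b⁻¹ * x⁻¹) * a⁻¹ ∈ Step.target A V x
      rw [e]
      exact mul_mem (mem_sup_right (h.c_mem ha (h.f_mem hb) (h.step b hb))) (h.f_mem_target hb)
    · show a * w * a⁻¹ ∈ Step.target A V x
      rw [h.comm_mem ha (mem_inf.1 hw).1, mul_inv_cancel_right]
      exact mem_sup_right hw
  exact CfsgLib.LocalStructure.mem_normalizer_of_forall fun y hy => hle hy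

/-- **Glauberman replacement**, one step. -/
theorem Step.replace [Finite G] (h : Step A V x) (hodd : ∀ v ∈ V, v * v = 1 → v = 1)
    (hx : x ∉ normalizer (A : Set G)) :
    IsMulCommutative ↥(replaceAt A x) ∧ Nat.card A ≤ Nat.card ↥(replaceAt A x) ∧
      A ⊓ V < replaceAt A x ⊓ V ∧ replaceAt A x ≤ normalizer (A : Set G) ∧
      commWith A x ≤ V ∧ replaceAt A x ≤ A ⊔ V := by
  have hf : ∀ a ∈ A, a * x * a⁻¹ * x⁻¹ ∈ Step.target A V x := fun a ha => h.f_mem_target ha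
  have hx' : ¬ ∀ a ∈ A, x * a * x⁻¹ ∈ A := fun hall => hx (by
    rw [mem_normalizer_iff_map_conj_eq]
    refine eq_of_le_of_card_ge ?_ (le_of_eq (card_map_of_injective (MulAut.conj x).injective).symm)
    rintro _ ⟨a, ha, rfl⟩
    exact hall a ha)
  refine ⟨replaceAt_isMulCommutative h.comm (h.target_comm hodd) hf,
    card_le_replaceAt h.comm (h.target_comm hodd) h.le_normalizer_target hf, ?_, ?_,
    commWith_le fun _ ha => h.f_mem ha, ?_⟩
  · have h1 := inf_lt_replaceAt_inf (h.target_comm hodd) hf hx' h.comm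
    have e : A ⊓ Step.target A V x = A ⊓ V :=
      le_antisymm (inf_le_inf_left _ h.target_le) (le_inf inf_le_left le_sup_right)
    rw [e] at h1
    exact h1.trans_le (inf_le_inf_left _ h.target_le)
  · exact sup_le (commWith_le h.step) (inf_le_left.trans le_normalizer)
  · exact sup_le ((commWith_le fun _ ha => h.f_mem ha).trans le_sup_right)
      (inf_le_left.trans le_sup_left)

/-- In a `p`-group some element outside the normalizer has all its commutators with `A` inside. -/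
theorem exists_step_element [Finite G] {p : ℕ} [Fact p.Prime] {P : Subgroup G} (hP : IsPGroup p P)
    (hA : A ≤ P) (hV : V ≤ P) (hPV : A ≤ normalizer (V : Set G))
    (hnot : ¬ V ≤ normalizer (A : Set G)) :
    ∃ x ∈ V, x ∉ normalizer (A : Set G) ∧
      ∀ a ∈ A, a * x * a⁻¹ * x⁻¹ ∈ normalizer (A : Set G) := by
  obtain ⟨T, ⟨hTV, hTn, hTA⟩, hmin⟩ := Set.Finite.exists_minimal
    (s := {T : Subgroup G | T ≤ V ∧ A ≤ normalizer (T : Set G) ∧ ¬ T ≤ normalizer (A : Set G)})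
    (Set.toFinite _) ⟨V, le_rfl, hPV, hnot⟩
  obtain ⟨x, hxT, hx⟩ := SetLike.not_le_iff_exists.1 hTA
  refine ⟨x, hTV hxT, hx, fun a ha => ?_⟩
  have hlt : ⁅T, A⁆ < T := CfsgLib.Coprime.commutator_lt_of_isPGroup (hP.to_le (hTV.trans hV))
    (hP.to_le hA) hTn (fun hbot => hTA (hbot ▸ bot_le))
  have hle : ⁅T, A⁆ ≤ normalizer (A : Set G) := by
    by_contra hcon
    exact (not_le_of_gt hlt) (hmin ⟨hlt.le.trans hTV,
      (le_inf hTn le_normalizer).trans
        (CfsgLib.LocalStructure.normalizer_le_normalizer_commutator T A), hcon⟩ hlt.le)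
  apply hle
  rw [commutator_comm]
  exact commutator_mem_commutator ha hxT

end CfsgLib.OddOrder.ZJ
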